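import Cfsg.Agent.Lib.TwoJordan.Main

/-!
# The induction: products of two regular unipotent endomorphisms
-/

set_option autoImplicit false
set_option linter.unusedSectionVars false
set_option linter.unusedSimpArgs false

namespace CfsgLib.TwoJordan

open Module

universe u

variable {K : Type*} [Field K] {V : Type u} [AddCommGroup V] [Module K V] [FiniteDimensional K V]

theorem pow_finrank_of_nilpotent {N : End K V} (h : IsNilpotent N) : N ^ finrank K V = 0 := by
  have := N.aeval_self_charpoly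
  rwa [IsNilpotent.charpoly_eq_X_pow_finrank h, Polynomial.aeval_X_pow] at this

/-- `Schur φ v A` is the complement of `A` along `A v` on `ker φ`. -/
def schur (A : End K V) (φ : V →ₗ[K] K) {v : V} (hAv : φ (A v) = 1) : End K (LinearMap.ker φ) :=
  LinearMap.codRestrict (LinearMap.ker φ) (A - (φ ∘ₗ A).smulRight (A v)) (fun x => by simp [hAv]) ∘ₗ
    (LinearMap.ker φ).subtype

theorem schur_apply (A : End K V) (φ : V →ₗ[K] K) {v : V} (hAv : φ (A v) = 1)
    (w : LinearMap.ker φ) : (schur A φ hAv w : V) = A w - φ (A w) • A v := rfl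

theorem trace_schur (A : End K V) (φ : V →ₗ[K] K) {v : V} (hAv : φ (A v) = 1) :
    LinearMap.trace K (LinearMap.ker φ) (schur A φ hAv) =
      LinearMap.trace K V A - φ (A (A v)) := by
  rw [schur, LinearMap.trace_comp_comm',
    show (LinearMap.ker φ).subtype ∘ₗ LinearMap.codRestrict (LinearMap.ker φ)
      (A - (φ ∘ₗ A).smulRight (A v)) (fun x => by simp [hAv]) = A - (φ ∘ₗ A).smulRight (A v) from rfl,
    map_sub, LinearMap.trace_smulRight]
  rfl

/-- `V ≃ ker φ × K`. -/
def splitEquiv (φ : V →ₗ[K] K) {v : V} (hv : φ v = 1) : (LinearMap.ker φ × K) ≃ₗ[K] V where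
  toFun p := (p.1 : V) + p.2 • v
  map_add' p q := by simp [add_smul]; abel
  map_smul' a p := by simp [smul_add, smul_smul]
  invFun x := (⟨x - φ x • v, by simp [hv]⟩, φ x)
  left_inv p := by
    have h : φ ((p.1 : V) + p.2 • v) = p.2 := by simp [hv, LinearMap.mem_ker.1 p.1.2]
    refine Prod.ext (Subtype.ext ?_) h
    simp only [h]
    abel
  right_inv x := by simp

theorem det_ext_id (φ : V →ₗ[K] K) {v : V} (hv : φ v = 1) (S : End K (LinearMap.ker φ)) :
    LinearMap.det (ext' φ hv ((LinearMap.ker φ).subtype ∘ₗ S) v) = LinearMap.det S := by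
  let e := splitEquiv φ hv
  have h : ext' φ hv ((LinearMap.ker φ).subtype ∘ₗ S) v =
      (e : _ →ₗ[K] V) ∘ₗ (LinearMap.prodMap S (LinearMap.id : K →ₗ[K] K)) ∘ₗ (e.symm : V →ₗ[K] _) := by
    refine ext_of hv ?_ fun w => ?_
    · rw [ext'_v]
      simp [e, splitEquiv, hv]
      exact (congrArg S (Subtype.ext rfl)).trans (map_zero S)
    · rw [ext'_ker]
      simp [e, splitEquiv, LinearMap.mem_ker.1 w.2]
  rw [h, LinearMap.det_conj, LinearMap.det_prodMap, LinearMap.det_id, mul_one]

theorem det_schur {A : End K V} (hdet : LinearMap.det A = 1) (φ : V →ₗ[K] K) {v : V}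
    (hv : φ v = 1) (hAv : φ (A v) = 1) : LinearMap.det (schur A φ hAv) = 1 := by
  let ρ : V →ₗ[K] K := φ ∘ₗ A - (φ (A v)) • φ
  have h : A = LinearMap.transvection φ (A v - v) *
      (ext' φ hv ((LinearMap.ker φ).subtype ∘ₗ schur A φ hAv) v * LinearMap.transvection ρ v) := by
    refine ext_of hv ?_ fun w => ?_
    · simp [LinearMap.transvection.apply, ext'_v, ρ, hv, hAv]
    · simp only [Module.End.mul_apply, LinearMap.transvection.apply, ρ, LinearMap.sub_apply,
        LinearMap.comp_apply, LinearMap.smul_apply, LinearMap.mem_ker.1 w.2, smul_zero, sub_zero,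
        map_add, map_smul, ext'_v, ext'_ker, hv, Submodule.subtype_apply, smul_eq_mul, mul_one]
      rw [schur_apply]
      simp [hAv, hv, smul_sub]
  have h2 := congrArg LinearMap.det h
  rw [map_mul, map_mul, LinearMap.transvection.det, LinearMap.transvection.det, det_ext_id, hdet] at h2
  simpa [ρ, hv, hAv] using h2.symm

theorem glue {A : End K V} {m : ℕ} {φ : V →ₗ[K] K} {v c : V} {r : V →ₗ[K] K} (hv : φ v = 1)
    (hAv : φ (A v) = 1) (hrv : r v ≠ 0) (hc : φ c ≠ 0)
    (h : Split (schur A φ hAv) m ⟨A v - v, by simp [hv, hAv]⟩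
      (φ ∘ₗ A ∘ₗ (LinearMap.ker φ).subtype)) : Split A (m + 1) c r := by
  obtain ⟨B₁, C₁, hS, hB0, hC0, hBne, w, hCne⟩ := h
  set B := ext' φ hv ((LinearMap.ker φ).subtype ∘ₗ B₁) (A v) with hB
  set C := ext' φ hv ((φ ∘ₗ A ∘ₗ (LinearMap.ker φ).subtype).smulRight v +
    (LinearMap.ker φ).subtype ∘ₗ C₁) v with hC
  have g1 := glue_up hv (show φ (A v - v) = 0 by simp [hv, hAv]) B₁ hB0 (B := B)
    (by rw [hB, ext'_v]; abel) (fun x => by rw [hB, ext'_ker]; rfl)
  have g2 := glue_down hv C₁ (φ ∘ₗ A ∘ₗ (LinearMap.ker φ).subtype) hC0 (C := C)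
    (by rw [hC, ext'_v]) (fun x => by rw [hC, ext'_ker]; rfl)
  refine ⟨B, C, ext_of hv ?_ fun x => ?_, g1.1, g2.1, ?_, (w : V), ?_⟩
  · rw [Module.End.mul_apply, hC, ext'_v, hB, ext'_v]
  · simp only [Module.End.mul_apply, hC, hB, ext'_ker, LinearMap.add_apply, LinearMap.smulRight_apply,
      map_add, map_smul, ext'_v, LinearMap.comp_apply, Submodule.subtype_apply]
    have := congrArg (fun f : End K (LinearMap.ker φ) => ((f x : LinearMap.ker φ) : V)) hS
    simp only [schur_apply, Module.End.mul_apply] at this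
    simp [← this]
  · rw [g1.2 c]
    exact smul_ne_zero hc fun h => hBne (Subtype.ext h)
  · rw [g2.2 w, map_smul, smul_eq_mul]
    exact mul_ne_zero hCne hrv

theorem exists_shift (hK : 4 ≤ Cardinal.mk K) {p q : Submodule K V} {x : V} (hp : x ∉ p) (hq : x ∉ q)
    (z : V) : ∃ t : K, t ≠ 0 ∧ x + t • z ∉ p ∧ x + t • z ∉ q := by
  have key : ∀ W : Submodule K V, x ∉ W → ∀ t t' : K, x + t • z ∈ W → x + t' • z ∈ W → t = t' := by
    intro W hW t t' e e'
    by_contra hne
    have h1 : (t - t') • z ∈ W := by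
      have := W.sub_mem e e'
      rwa [add_sub_add_left_eq_sub, ← sub_smul] at this
    have h2 := (Submodule.smul_mem_iff _ (sub_ne_zero.2 hne)).1 h1
    exact hW (by simpa using W.sub_mem e (W.smul_mem t h2))
  obtain ⟨t, ht⟩ := line hK (Finset.univ : Finset (Fin 3)) (by simp)
    ![fun t => t = 0, fun t => x + t • z ∈ p, fun t => x + t • z ∈ q] fun i _ t t' e e' => by
      fin_cases i
      · exact (e : t = 0).trans (e' : t' = 0).symm
      · exact key p hp t t' e e'
      · exact key q hq t t' e e'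
  exact ⟨t, ht 0 (Finset.mem_univ _), ht 1 (Finset.mem_univ _), ht 2 (Finset.mem_univ _)⟩

theorem exists_v (hK : 4 ≤ Cardinal.mk K) {A : End K V} (hdet : LinearMap.det A = 1)
    (hnu : ¬ IsNilpotent (A - 1)) (hns : ∀ s : K, A ≠ s • 1) {c : V} {r : V →ₗ[K] K}
    (hr : r ≠ 0) :
    ∃ v : V, A v ∉ (K ∙ v) ∧ r v ≠ 0 ∧ A v - v ∉ (K ∙ c) ∧
      (LinearMap.range ((A - 1) ^ finrank K V) ≠ ⊤ → v ∉ LinearMap.range ((A - 1) ^ finrank K V)) := by
  set n := finrank K V with hn
  set R := LinearMap.range ((A - 1) ^ n) with hR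
  set L := (K ∙ c).comap (A - 1) with hL
  have hLt : L ≠ ⊤ := fun h => by
    obtain ⟨x, hx⟩ := not_unip_rank (u := c) hdet hnu
    exact hx (Submodule.mem_comap.1 (h ▸ Submodule.mem_top : x ∈ L))
  have hrt : LinearMap.ker r ≠ ⊤ := fun h => hr (LinearMap.ker_eq_top.1 h)
  by_cases hRt : R ≠ ⊤
  · have hUt : LinearMap.ker ((A - 1) ^ n) ≠ ⊤ := fun h => hnu ⟨n, LinearMap.ker_eq_top.1 h⟩
    obtain ⟨v, hv⟩ := exists_notMem_four hK 4 le_rfl
      ![LinearMap.ker r, L, R, LinearMap.ker ((A - 1) ^ n)]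
      (fun i => by fin_cases i <;> assumption)
    refine ⟨v, fun he => ?_, fun h => hv 0 h, fun h => hv 1 (by simpa [hL] using h), fun _ => hv 2⟩
    obtain ⟨l, hl⟩ := Submodule.mem_span_singleton.1 he
    have hk : ∀ k : ℕ, ((A - 1) ^ k) v = (l - 1) ^ k • v := by
      intro k
      induction k with
      | zero => simp
      | succ k ih =>
        rw [pow_succ', Module.End.mul_apply, ih, map_smul]
        simp [← hl, sub_smul, smul_sub, smul_smul, pow_succ, mul_sub, sub_smul]
    rcases eq_or_ne l 1 with rfl | h1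
    · refine hv 3 (LinearMap.mem_ker.2 ?_)
      have hn0 : n ≠ 0 := by
        intro h0
        rw [hn, Module.finrank_zero_iff] at h0
        exact hv 0 (by simp [Subsingleton.elim v 0])
      rw [hk, sub_self, zero_pow hn0, zero_smul]
    · refine hv 2 ⟨((l - 1) ^ n)⁻¹ • v, ?_⟩
      rw [map_smul, hk, smul_smul, inv_mul_cancel₀ (pow_ne_zero _ (sub_ne_zero.2 h1)), one_smul]
  · suffices ∃ v, A v ∉ (K ∙ v) ∧ v ∉ LinearMap.ker r ∧ v ∉ L by
      obtain ⟨v, h1, h2, h3⟩ := this
      exact ⟨v, h1, h2, fun h => h3 (by simpa [hL] using h), fun h => absurd h hRt⟩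
    by_contra hall
    push Not at hall
    have heig : ∀ v, v ∉ LinearMap.ker r → v ∉ L → ∃ l : K, l • v = A v := fun v h1 h2 =>
      Submodule.mem_span_singleton.1 (by_contra fun h => h2 (hall v h h1))
    obtain ⟨x, hx⟩ := exists_notMem_four hK 2 (by norm_num) ![LinearMap.ker r, L]
      (fun i => by fin_cases i <;> assumption)
    have hxr : x ∉ LinearMap.ker r := hx 0
    have hxL : x ∉ L := hx 1
    obtain ⟨l, hl⟩ := heig x hxr hxL
    refine hns l (LinearMap.ext fun z => ?_)
    obtain ⟨t, ht0, hyr, hyL⟩ := exists_shift hK hxr hxL z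
    set y := x + t • z with hy
    obtain ⟨l', hl'⟩ := heig y hyr hyL
    have hll : l' = l ∨ ∃ q : K, y = q • x := by
      rcases eq_or_ne l' l with h | h
      · exact Or.inl h
      refine Or.inr ?_
      by_contra hq
      push Not at hq
      obtain ⟨s, hs0, hs1, hs2⟩ := exists_shift hK hxr hxL y
      obtain ⟨m, hm⟩ := heig (x + s • y) hs1 hs2
      rw [map_add, map_smul, ← hl, ← hl', smul_add] at hm
      have h1 : (m - l) • x + (s * (m - l')) • y = 0 := by
        rw [sub_smul, mul_sub, sub_smul, ← smul_smul, ← smul_smul]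
        rw [smul_comm s m y]
        linear_combination (norm := module) hm
      rcases eq_or_ne (s * (m - l')) 0 with h0 | h0
      · rw [h0, zero_smul, add_zero, smul_eq_zero] at h1
        have hm' : m = l' := sub_eq_zero.1 ((mul_eq_zero.1 h0).resolve_left hs0)
        rcases h1 with h1 | h1
        · exact h (hm'.symm.trans (sub_eq_zero.1 h1))
        · exact hxr (by simp [h1])
      · refine hq (-(s * (m - l'))⁻¹ * (m - l)) ?_
        rw [neg_mul, neg_smul, mul_smul, eq_neg_of_add_eq_zero_left h1, smul_neg, neg_neg,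
          inv_smul_smul₀ h0]
    have hz : z = t⁻¹ • (y - x) := by simp [hy, ht0]
    rcases hll with rfl | ⟨q, hq⟩
    · rw [hz]
      simp only [map_smul, map_sub, ← hl, ← hl', LinearMap.smul_apply, Module.End.one_apply]
    · rw [hz, hq]
      simp only [map_smul, map_sub, ← hl, LinearMap.smul_apply, Module.End.one_apply]

/-- A reduction step: a good Schur complement. -/
theorem exists_reduction (hK : 4 ≤ Cardinal.mk K) {m : ℕ} (hV : finrank K V = m + 2) {A : End K V}
    (hdet : LinearMap.det A = 1) (hnu : ¬ IsNilpotent (A - 1)) (hns : ∀ s : K, A ≠ s • 1)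
    {c : V} (hc : c ≠ 0) {r : V →ₗ[K] K} (hr : r ≠ 0) :
    ∃ (v : V) (φ : V →ₗ[K] K) (_ : φ v = 1) (hAv : φ (A v) = 1), r v ≠ 0 ∧ φ c ≠ 0 ∧ A v - v ≠ 0 ∧
      (∃ u, φ ((A - 1) u) ≠ 0) ∧
      (m = 0 ∨ ¬ IsNilpotent (schur A φ hAv - 1) ∧ ∀ s : K, schur A φ hAv ≠ s • 1) := by
  obtain ⟨v, hne, hrv, hdc, hvR⟩ := exists_v hK hdet hnu hns (c := c) hr
  set d := A v - v with hd
  set W := Submodule.span K ({v, A v} : Set V) with hW
  have hvW : v ∈ W := Submodule.subset_span (by simp)
  have hAvW : A v ∈ W := Submodule.subset_span (by simp)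
  have hdW : d ∈ W := W.sub_mem hAvW hvW
  have hvd : v ∉ (K ∙ d) := fun h => by
    obtain ⟨a, ha⟩ := Submodule.mem_span_singleton.1 h
    rcases eq_or_ne a 0 with rfl | ha0
    · exact hrv (by rw [← ha]; simp)
    refine hne (Submodule.mem_span_singleton.2 ⟨1 + a⁻¹, ?_⟩)
    conv_lhs => rw [add_smul, one_smul]
    nth_rewrite 2 [← ha]
    rw [smul_smul, inv_mul_cancel₀ ha0, one_smul, hd]
    abel
  obtain ⟨φ₀, h0v, h0d⟩ := exists_dual_one hvd
  set Φ : Set (V →ₗ[K] K) := {φ | φ v = 1 ∧ φ (A v) = 1} with hΦ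
  have h0 : φ₀ ∈ Φ := ⟨h0v, by
    have := h0d d (Submodule.mem_span_singleton_self d)
    rwa [hd, map_sub, h0v, sub_eq_zero] at this⟩
  have hW0 : ∀ φ ∈ Φ, ∀ x ∈ W, ∃ a b : K, x = a • v + b • A v ∧ φ x = a + b := fun φ hφ x hx => by
    obtain ⟨a, b, rfl⟩ := Submodule.mem_span_pair.1 hx
    exact ⟨a, b, rfl, by simp [hφ.1, hφ.2]⟩
  have w1 : ∀ x ∉ W, ∀ a : K, ∃ φ ∈ Φ, φ x ≠ a := fun x hx a => by
    obtain ⟨g, hgx, hg⟩ := exists_dual_one hx
    refine ⟨φ₀ + (a + 1 - φ₀ x) • g, ⟨by simp [h0v, hg v hvW], by simp [h0.2, hg _ hAvW]⟩, ?_⟩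
    simp [hgx]
  have w2 : ∀ x ∉ (K ∙ d), ∃ φ ∈ Φ, φ x ≠ 0 := fun x hx => by
    by_cases hxW : x ∈ W
    · obtain ⟨a, b, rfl, he⟩ := hW0 φ₀ h0 x hxW
      refine ⟨φ₀, h0, fun h => hx (Submodule.mem_span_singleton.2 ⟨b, ?_⟩)⟩
      rw [he, add_eq_zero_iff_eq_neg] at h
      rw [h, hd, smul_sub, neg_smul]
      abel
    · exact w1 x hxW 0
  have hcd : c ∉ (K ∙ d) := fun h => by
    obtain ⟨a, ha⟩ := Submodule.mem_span_singleton.1 h
    have ha0 : a ≠ 0 := by rintro rfl; exact hc (by simpa using ha.symm)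
    exact hdc (Submodule.mem_span_singleton.2 ⟨a⁻¹, by rw [← ha, inv_smul_smul₀ ha0]⟩)
  obtain ⟨u₂, hu₂⟩ := not_unip_rank (u := d) hdet hnu
  -- the third condition
  obtain ⟨x₃, c₃, hex, hS⟩ : ∃ (x₃ : V) (c₃ : K), (∃ φ ∈ Φ, φ x₃ ≠ c₃) ∧
      ∀ φ : V →ₗ[K] K, ∀ hv : φ v = 1, ∀ hAv : φ (A v) = 1, φ x₃ ≠ c₃ → m = 0 ∨
        ¬ IsNilpotent (schur A φ hAv - 1) ∧ ∀ s : K, schur A φ hAv ≠ s • 1 := by
    rcases Nat.eq_zero_or_pos m with rfl | hm
    · exact ⟨v, 0, ⟨φ₀, h0, by simp [h0v]⟩, fun _ _ _ _ => Or.inl rfl⟩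
    have hS' : ∀ φ : V →ₗ[K] K, ∀ hv : φ v = 1, ∀ hAv : φ (A v) = 1,
        ∀ hd' : d ∈ LinearMap.ker φ, (schur A φ hAv ⟨d, hd'⟩ : V) = A (A v) - φ (A (A v)) • A v := by
      intro φ hv hAv hd'
      rw [schur_apply]
      simp only [hd, map_sub, hAv]
      rw [sub_smul, one_smul]
      abel
    by_cases hA2 : A (A v) ∈ W
    swap
    · refine ⟨A (A v), LinearMap.trace K V A - (m + 1 : ℕ), w1 _ hA2 _, fun φ hv hAv hne' =>
        Or.inr ⟨fun hnil => hne' ?_, fun s hs => hA2 ?_⟩⟩
      · have h1 := (LinearMap.isNilpotent_trace_of_isNilpotent hnil).eq_zero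
        rw [map_sub, sub_eq_zero, trace_schur, LinearMap.trace_one] at h1
        rw [show finrank K (LinearMap.ker φ) = m + 1 by have := finrank_ker hv; omega] at h1
        rw [← h1]; ring
      · have hd' : d ∈ LinearMap.ker φ := by simp [hd, hv, hAv]
        have h1 := hS' φ hv hAv hd'
        rw [hs] at h1
        simp only [LinearMap.smul_apply, Module.End.one_apply, SetLike.val_smul] at h1
        rw [eq_sub_iff_add_eq] at h1
        rw [← h1]
        exact W.add_mem (W.smul_mem _ hdW) (W.smul_mem _ hAvW)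
    obtain ⟨b, a, hab⟩ := Submodule.mem_span_pair.1 hA2
    have hb : b ≠ 0 := by
      rintro rfl
      rw [zero_smul, zero_add] at hab
      have hunit : Function.Injective A :=
        ((Module.End.isUnit_iff A).1 ((LinearMap.isUnit_iff_isUnit_det A).2 (hdet ▸ isUnit_one))).1
      exact hne (Submodule.mem_span_singleton.2 ⟨a, hunit (by rw [map_smul, hab])⟩)
    have hSd : ∀ φ : V →ₗ[K] K, ∀ hv : φ v = 1, ∀ hAv : φ (A v) = 1,
        ∀ hd' : d ∈ LinearMap.ker φ, schur A φ hAv ⟨d, hd'⟩ = -b • ⟨d, hd'⟩ := by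
      intro φ hv hAv hd'
      refine Subtype.ext ?_
      rw [hS' φ hv hAv hd', ← hab]
      simp only [map_add, map_smul, hv, hAv, smul_eq_mul, mul_one, SetLike.val_smul, hd]
      module
    have hd0 : d ≠ 0 := fun h => hne (Submodule.mem_span_singleton.2 ⟨1, by
      rw [one_smul]; exact (sub_eq_zero.1 h).symm⟩)
    have hWlt : W ≠ ⊤ := fun h => by
      have h1 : finrank K W ≤ 2 := by
        classical
        rw [hW, show ({v, A v} : Set V) = (({v, A v} : Finset V) : Set V) by simp]
        exact (finrank_span_finset_le_card _).trans Finset.card_le_two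
      rw [h, finrank_top, hV] at h1
      omega
    obtain ⟨u, -, hu⟩ := SetLike.exists_of_lt (lt_top_iff_ne_top.2 hWlt)
    by_cases hb1 : b = -1
    · subst hb1
      refine ⟨v, 0, ⟨φ₀, h0, by simp [h0v]⟩, fun φ hv hAv _ => Or.inr ?_⟩
      have hnn : ¬ IsNilpotent (schur A φ hAv - 1) := by
        intro hnil
        have hk := pow_finrank_of_nilpotent hnil
        set k := finrank K (LinearMap.ker φ)
        have hinv : ∀ x ∈ W, (A - 1) x ∈ W := fun x hx => by
          obtain ⟨p, q, rfl⟩ := Submodule.mem_span_pair.1 hx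
          simp only [map_add, map_smul, LinearMap.sub_apply, Module.End.one_apply]
          exact W.add_mem (W.smul_mem _ hdW) (W.smul_mem _ (W.sub_mem hA2 hAvW))
        have hmod : ∀ (j : ℕ) (w : LinearMap.ker φ),
            ((A - 1) ^ j) (w : V) - ((((schur A φ hAv - 1) ^ j) w : LinearMap.ker φ) : V) ∈ W := by
          intro j
          induction j with
          | zero => intro w; simp
          | succ j ihj =>
            intro w
            rw [pow_succ' (A - 1), pow_succ' (schur A φ hAv - 1), Module.End.mul_apply,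
              Module.End.mul_apply]
            set y := ((schur A φ hAv - 1) ^ j) w
            have e : (((schur A φ hAv - 1) y : LinearMap.ker φ) : V) =
                (A - 1) (y : V) - φ (A (y : V)) • A v := by
              simp [schur_apply]; abel
            rw [e, sub_sub_eq_add_sub, add_sub_right_comm, ← map_sub]
            exact W.add_mem (hinv _ (ihj w)) (W.smul_mem _ hAvW)
        have hpk : ∀ (j : ℕ), ∀ x ∈ W, ((A - 1) ^ j) x ∈ W := by
          intro j
          induction j with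
          | zero => intro x hx; simpa using hx
          | succ j ihj => intro x hx; rw [pow_succ', Module.End.mul_apply]; exact hinv _ (ihj x hx)
        have himg : ∀ x, ((A - 1) ^ k) x ∈ W := fun x => by
          have h1 := hmod k ⟨x - φ x • v, by simp [hv]⟩
          rw [hk] at h1
          simp only [LinearMap.zero_apply, ZeroMemClass.coe_zero, sub_zero, map_sub, map_smul] at h1
          simpa using W.add_mem h1 (W.smul_mem (φ x) (hpk k v hvW))
        have hv2 : (A - 1) ((A - 1) v) = (a - 2) • A v := by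
          simp only [map_sub, LinearMap.sub_apply, Module.End.one_apply, ← hab]
          module
        rcases eq_or_ne a 2 with rfl | ha2
        · refine hnu ⟨2 + k, LinearMap.ext fun x => ?_⟩
          rw [pow_add, Module.End.mul_apply, pow_two, Module.End.mul_apply]
          obtain ⟨p, q, hpq⟩ := Submodule.mem_span_pair.1 (himg x)
          rw [sub_self, zero_smul] at hv2
          have hv3 : (A - 1) ((A - 1) (A v)) = 0 := by
            have e : (A - 1) ((A - 1) (A v)) = A ((A - 1) ((A - 1) v)) := by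
              simp only [map_sub, LinearMap.sub_apply, Module.End.one_apply]
            rw [e, hv2, map_zero]
          simp only [← hpq, map_add, map_smul, hv2, hv3, smul_zero, add_zero, LinearMap.zero_apply]
        · have hsur : ∀ x ∈ W, ∃ y ∈ W, (A - 1) y = x := by
            have h2 : a - 2 ≠ 0 := sub_ne_zero.2 ha2
            have hy1 : (A - 1) ((a - 2)⁻¹ • d) = A v := by
              rw [map_smul, show d = (A - 1) v by simp [hd], hv2, inv_smul_smul₀ h2]
            intro x hx
            obtain ⟨p, q, rfl⟩ := Submodule.mem_span_pair.1 hx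
            refine ⟨(p + q) • ((a - 2)⁻¹ • d) - p • v,
              W.sub_mem (W.smul_mem _ (W.smul_mem _ hdW)) (W.smul_mem _ hvW), ?_⟩
            rw [map_sub, map_smul, hy1, map_smul, LinearMap.sub_apply, Module.End.one_apply]
            module
          have hall : ∀ (j : ℕ), ∀ x ∈ W, x ∈ LinearMap.range ((A - 1) ^ j) := by
            intro j
            induction j with
            | zero => intro x _; exact ⟨x, rfl⟩
            | succ j ihj =>
              intro x hx
              obtain ⟨y, hy, rfl⟩ := hsur x hx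
              obtain ⟨z, rfl⟩ := ihj y hy
              exact ⟨z, by rw [pow_succ', Module.End.mul_apply]⟩
          refine hvR (fun hRt => hWlt (eq_top_iff.2 fun x _ => ?_)) (hall _ v hvW)
          obtain ⟨y, rfl⟩ : x ∈ LinearMap.range ((A - 1) ^ finrank K V) := hRt ▸ Submodule.mem_top
          rw [show finrank K V = 1 + k by have := finrank_ker hv; omega, pow_add,
            Module.End.mul_apply, pow_one]
          exact hinv _ (himg y)
      refine ⟨hnn, fun s hs => hnn ?_⟩
      have hd' : d ∈ LinearMap.ker φ := by simp [hd, hv, hAv]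
      have h1 := hSd φ hv hAv hd'
      rw [hs, neg_neg, one_smul] at h1
      have h2 : s • d = d := congrArg Subtype.val h1
      have h3 : s = 1 := by
        by_contra h
        have h4 : (s - 1) • d = 0 := by rw [sub_smul, h2, one_smul, sub_self]
        exact hd0 ((smul_eq_zero.1 h4).resolve_left (sub_ne_zero.2 h))
      rw [hs, h3, one_smul, sub_self]
      exact IsNilpotent.zero
    have hnn : ∀ φ : V →ₗ[K] K, ∀ hv : φ v = 1, ∀ hAv : φ (A v) = 1,
        ¬ IsNilpotent (schur A φ hAv - 1) := by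
      rintro φ hv hAv ⟨k, hk⟩
      have hd' : d ∈ LinearMap.ker φ := by simp [hd, hv, hAv]
      have e : ∀ j : ℕ, ((schur A φ hAv - 1) ^ j) ⟨d, hd'⟩ = (-b - 1) ^ j • ⟨d, hd'⟩ := by
        intro j
        induction j with
        | zero => simp
        | succ j ihj =>
          rw [pow_succ', Module.End.mul_apply, ihj, map_smul, LinearMap.sub_apply, hSd φ hv hAv hd',
            Module.End.one_apply, pow_succ]
          module
      have h1 := e k
      rw [hk] at h1
      refine smul_ne_zero (pow_ne_zero k ?_) (fun h => hd0 (congrArg Subtype.val h)) h1.symm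
      intro h0'
      exact hb1 (by linear_combination -h0')
    by_cases hbu : A u + b • u ∈ W
    · obtain ⟨α, β, hαβ⟩ := Submodule.mem_span_pair.1 hbu
      refine ⟨u, α / b, w1 u hu _, fun φ hv hAv hne' =>
        Or.inr ⟨hnn φ hv hAv, fun s hs => hne' ?_⟩⟩
      have hd' : d ∈ LinearMap.ker φ := by simp [hd, hv, hAv]
      have hsb : s = -b := by
        have h0' := hSd φ hv hAv hd'
        rw [hs] at h0'
        have h1 : s • d = -b • d := congrArg Subtype.val h0'
        by_contra h
        have h4 : (s - -b) • d = 0 := by rw [sub_smul, h1, sub_self]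
        exact hd0 ((smul_eq_zero.1 h4).resolve_left (sub_ne_zero.2 h))
      have h1 := congrArg Subtype.val (LinearMap.congr_fun hs ⟨u - φ u • v, by simp [hv]⟩)
      rw [schur_apply] at h1
      simp only [LinearMap.smul_apply, Module.End.one_apply, SetLike.val_smul, hsb, map_sub,
        map_smul, hAv, smul_eq_mul, mul_one] at h1
      have h2 : (α - b * φ u) • v = (φ (A u) - β) • A v := by
        linear_combination (norm := module) hαβ + h1
      by_contra h
      have h3 : α - b * φ u ≠ 0 := fun e => h (by rw [eq_div_iff hb]; linear_combination -e)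
      rcases eq_or_ne (φ (A u) - β) 0 with e | e
      · rw [e, zero_smul, smul_eq_zero] at h2
        exact hrv (by rw [h2.resolve_left h3, map_zero])
      · exact hne (Submodule.mem_span_singleton.2
          ⟨(φ (A u) - β)⁻¹ * (α - b * φ u), by rw [mul_smul, h2, inv_smul_smul₀ e]⟩)
    · refine ⟨v, 0, ⟨φ₀, h0, by simp [h0v]⟩, fun φ hv hAv _ =>
        Or.inr ⟨hnn φ hv hAv, fun s hs => hbu ?_⟩⟩
      have hd' : d ∈ LinearMap.ker φ := by simp [hd, hv, hAv]
      have hsb : s = -b := by
        have h0' := hSd φ hv hAv hd'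
        rw [hs] at h0'
        have h1 : s • d = -b • d := congrArg Subtype.val h0'
        by_contra h
        have h4 : (s - -b) • d = 0 := by rw [sub_smul, h1, sub_self]
        exact hd0 ((smul_eq_zero.1 h4).resolve_left (sub_ne_zero.2 h))
      have h1 := congrArg Subtype.val (LinearMap.congr_fun hs ⟨u - φ u • v, by simp [hv]⟩)
      rw [schur_apply] at h1
      simp only [LinearMap.smul_apply, Module.End.one_apply, SetLike.val_smul, hsb, map_sub,
        map_smul, hAv, smul_eq_mul, mul_one] at h1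
      have h2 : A u + b • u = φ (A u) • A v + (b * φ u) • v := by
        linear_combination (norm := module) h1
      rw [h2]
      exact W.add_mem (W.smul_mem _ hAvW) (W.smul_mem _ hvW)
  -- choose `φ`
  obtain ⟨φ, ⟨hv, hAv⟩, hφ⟩ := affine_avoid hK (W := K) Φ
    (fun f hf g hg t => ⟨by simp [hf.1, hg.1], by simp [hf.2, hg.2]⟩) 3 le_rfl
    ![LinearMap.applyₗ c, LinearMap.applyₗ ((A - 1) u₂), LinearMap.applyₗ x₃] ![0, 0, c₃]
    ⟨φ₀, h0⟩ (fun i => by
      fin_cases i
      · exact w2 c hcd
      · exact w2 _ hu₂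
      · exact hex)
  exact ⟨v, φ, hv, hAv, hrv, hφ 0,
    fun h => hne (Submodule.mem_span_singleton.2 ⟨1, by rw [one_smul]; exact (sub_eq_zero.1 h).symm⟩),
    ⟨u₂, hφ 1⟩, hS φ hv hAv (hφ 2)⟩

/-- The main induction. -/
theorem split_of_good (hK : 4 ≤ Cardinal.mk K) : ∀ (m : ℕ) {V : Type u} [AddCommGroup V]
    [Module K V] [FiniteDimensional K V], finrank K V = m + 1 → ∀ (A : End K V),
    LinearMap.det A = 1 → (m = 0 ∨ ¬ IsNilpotent (A - 1) ∧ ∀ s : K, A ≠ s • 1) →
    ∀ (c : V), c ≠ 0 → ∀ (r : V →ₗ[K] K), r ≠ 0 → Split A m c r := by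
  intro m
  induction m with
  | zero => intro V _ _ _ hV A hdet _ c hc r hr; exact split_one hV A hdet hc hr
  | succ m ih =>
    intro V _ _ _ hV A hdet hgood c hc r hr
    obtain ⟨hnu, hns⟩ := hgood.resolve_left (Nat.succ_ne_zero m)
    obtain ⟨v, φ, hv, hAv, hrv, hφc, hd, ⟨u₂, hu⟩, hS⟩ := exists_reduction hK hV hdet hnu hns hc hr
    refine glue hv hAv hrv hφc (ih (by have := finrank_ker hv; omega) _ (det_schur hdet φ hv hAv)
      hS _ (fun h => hd (congrArg Subtype.val h)) _ fun h => hu ?_)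
    have h1 := LinearMap.congr_fun h ⟨u₂ - φ u₂ • v, by simp [hv]⟩
    simp [hAv] at h1
    simpa using h1

/-- A unipotent endomorphism is a product of two regular ones. -/
theorem unip_split (hK : 4 ≤ Cardinal.mk K) : ∀ (m : ℕ) {V : Type u} [AddCommGroup V]
    [Module K V] [FiniteDimensional K V], finrank K V = m + 1 → ∀ (A : End K V),
    IsNilpotent (A - 1) → ∃ B C : End K V, A = B * C ∧ (B - 1) ^ (m + 1) = 0 ∧
      (C - 1) ^ (m + 1) = 0 ∧ (B - 1) ^ m ≠ 0 ∧ (C - 1) ^ m ≠ 0 := by
  intro m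
  induction m with
  | zero =>
    intro V _ _ _ hV A hA
    have := pow_finrank_of_nilpotent hA
    rw [hV, pow_one, sub_eq_zero] at this
    have : Nontrivial V := Module.nontrivial_of_finrank_eq_succ hV
    exact ⟨1, 1, by simp [this, *], by simp, by simp, by simp, by simp⟩
  | succ m ih =>
    intro V _ _ _ hV A hA
    have hrange : LinearMap.range (A - 1) ≠ ⊤ := fun h => by
      obtain ⟨k, hk⟩ := hA
      have hsur : Function.Surjective ((A - 1) ^ k : End K V) := by
        rw [Module.End.coe_pow]; exact (LinearMap.range_eq_top.1 h).iterate k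
      have : Nontrivial V := Module.nontrivial_of_finrank_eq_succ hV
      obtain ⟨x, hx⟩ := exists_ne (0 : V)
      obtain ⟨y, hy⟩ := hsur x
      rw [hk] at hy
      exact hx hy.symm
    obtain ⟨v, -, hv0⟩ := SetLike.exists_of_lt (lt_top_iff_ne_top.2 hrange)
    obtain ⟨φ, hv, hφ⟩ := exists_dual_one hv0
    have hφA : ∀ x, φ (A x) = φ x := fun x => by
      have := hφ ((A - 1) x) ⟨x, rfl⟩
      simpa [sub_eq_zero] using this
    let A₁ : End K (LinearMap.ker φ) := A.restrict fun x hx => by
      rw [LinearMap.mem_ker] at hx ⊢; rw [hφA, hx]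
    have hA₁ : IsNilpotent (A₁ - 1) := by
      obtain ⟨k, hk⟩ := hA
      refine ⟨k, LinearMap.ext fun w => Subtype.ext ?_⟩
      have e : ∀ j : ℕ, ((((A₁ - 1) ^ j) w : LinearMap.ker φ) : V) = ((A - 1) ^ j) w := by
        intro j
        induction j with
        | zero => rfl
        | succ j ihj =>
          rw [pow_succ' (A₁ - 1), pow_succ' (A - 1), Module.End.mul_apply, Module.End.mul_apply, ← ihj]
          rfl
      rw [e, hk]
      rfl
    obtain ⟨B₁, C₁, hBC, hB0, hC0, hBne, hCne⟩ := ih (by have := finrank_ker hv; omega) A₁ hA₁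
    obtain ⟨U, hU⟩ : IsUnit B₁ := by
      have := (IsNilpotent.isUnit_one_add (r := B₁ - 1) ⟨m + 1, hB0⟩)
      rwa [add_sub_cancel] at this
    have hUi : ∀ y, B₁ ((↑U⁻¹ : End K (LinearMap.ker φ)) y) = y := fun y => by
      rw [← Module.End.mul_apply, ← hU, U.mul_inv, Module.End.one_apply]
    let f : LinearMap.ker φ := ⟨A v - v, by simp [hφA]⟩
    set L₂ : End K (LinearMap.ker φ) := (C₁ - 1) ^ m * ↑U⁻¹ with hL₂
    obtain ⟨e, -, he⟩ := affine_avoid hK (W := LinearMap.ker φ) (Set.univ : Set (LinearMap.ker φ))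
      (fun _ _ _ _ _ => trivial) 2 (by norm_num) ![(B₁ - 1) ^ m, L₂] ![0, L₂ f] Set.univ_nonempty
      (fun i => by
        fin_cases i
        · by_contra h
          push Not at h
          exact hBne (LinearMap.ext fun x => h x trivial)
        · by_contra h
          push Not at h
          have h0 := h 0 trivial
          simp only [Fin.mk_one, Matrix.cons_val_one, Matrix.cons_val_zero, map_zero] at h0 h
          refine hCne (LinearMap.ext fun x => ?_)
          have := h (B₁ x) trivial
          have hx : (↑U⁻¹ : End K (LinearMap.ker φ)) (B₁ x) = x := by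
            rw [← Module.End.mul_apply, ← hU, U.inv_mul, Module.End.one_apply]
          rw [← h0, hL₂, Module.End.mul_apply, hx] at this
          exact this)
    let e' : LinearMap.ker φ := (↑U⁻¹ : End K (LinearMap.ker φ)) (f - e)
    set B := ext' φ hv ((LinearMap.ker φ).subtype ∘ₗ B₁) (v + (e : V)) with hB
    set C := ext' φ hv ((LinearMap.ker φ).subtype ∘ₗ C₁) (v + (e' : V)) with hC
    have g1 := glue_up hv (LinearMap.mem_ker.1 e.2) B₁ hB0 (B := B)
      (by rw [hB, ext'_v]) (fun x => by rw [hB, ext'_ker]; rfl)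
    have g2 := glue_up hv (LinearMap.mem_ker.1 e'.2) C₁ hC0 (B := C)
      (by rw [hC, ext'_v]) (fun x => by rw [hC, ext'_ker]; rfl)
    refine ⟨B, C, ext_of hv ?_ fun x => ?_, g1.1, g2.1, fun h => ?_, fun h => ?_⟩
    · rw [Module.End.mul_apply, hC, ext'_v, map_add, hB, ext'_v, ext'_ker, LinearMap.comp_apply, hUi]
      simp [f]
    · rw [Module.End.mul_apply, hC, ext'_ker, LinearMap.comp_apply, Submodule.subtype_apply, hB,
        ext'_ker, LinearMap.comp_apply, ← Module.End.mul_apply, ← hBC]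
      rfl
    · have h1 := g1.2 v
      rw [h, zero_smul, hv, one_smul] at h1
      exact he 0 (Subtype.ext h1.symm)
    · have h1 := g2.2 v
      rw [h, zero_smul, hv, one_smul] at h1
      refine he 1 ?_
      have h2 : L₂ (f - e) = 0 := Subtype.ext h1.symm
      rw [map_sub, sub_eq_zero] at h2
      exact h2.symm

end CfsgLib.TwoJordan
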