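import Mathlib

/-!
# Avoiding few proper subspaces over fields with at least four elements
-/

set_option autoImplicit false

namespace CfsgLib.TwoJordan

variable {K V : Type*} [Field K] [AddCommGroup V] [Module K V]

theorem exists_notMem_finset (hK : 4 ≤ Cardinal.mk K) (F : Finset K) (hF : F.card ≤ 3) :
    ∃ t : K, t ∉ F := by
  by_contra h
  push Not at h
  have : Fintype K := ⟨F, h⟩
  rw [Cardinal.mk_fintype] at hK
  have h4 : 4 ≤ Fintype.card K := by exact_mod_cast hK
  have h5 : Fintype.card K ≤ F.card := Finset.card_le_card fun x _ => h x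
  omega

/-- A line meeting each of at most three conditions in at most one point has a point off all. -/
theorem line (hK : 4 ≤ Cardinal.mk K) {ι : Type*} (s : Finset ι) (hs : s.card ≤ 3)
    (bad : ι → K → Prop) (h : ∀ i ∈ s, ∀ t t', bad i t → bad i t' → t = t') :
    ∃ t, ∀ i ∈ s, ¬ bad i t := by
  classical
  obtain ⟨t, ht⟩ := exists_notMem_finset hK
    (s.biUnion fun i => if hi : ∃ t, bad i t then {hi.choose} else ∅)
    ((Finset.card_biUnion_le_card_mul _ _ 1 fun i _ => by split_ifs <;> simp).trans (by omega))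
  refine ⟨t, fun i hi hb => ht (Finset.mem_biUnion.2 ⟨i, hi, ?_⟩)⟩
  rw [dif_pos ⟨t, hb⟩]
  exact Finset.mem_singleton.2 (h i hi t _ hb (Exists.choose_spec ⟨t, hb⟩))

/-- At most three conditions `L i x ≠ c i` on an affine subspace, each satisfiable, are satisfiable
together. -/
theorem affine_avoid (hK : 4 ≤ Cardinal.mk K) {W : Type*} [AddCommGroup W] [Module K W]
    (S : Set V) (hS : ∀ x ∈ S, ∀ y ∈ S, ∀ t : K, x + t • (y - x) ∈ S) :
    ∀ m ≤ 3, ∀ (L : Fin m → V →ₗ[K] W) (c : Fin m → W), S.Nonempty →
      (∀ i, ∃ x ∈ S, L i x ≠ c i) → ∃ x ∈ S, ∀ i, L i x ≠ c i := by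
  intro m
  induction m with
  | zero => intro _ _ _ ⟨x, hx⟩ _; exact ⟨x, hx, fun i => i.elim0⟩
  | succ m ih =>
    intro hm L c hne h
    obtain ⟨x, hx, hxi⟩ := ih (by omega) (fun i => L i.castSucc) (fun i => c i.castSucc) hne
      fun i => h i.castSucc
    obtain ⟨y, hy, hyi⟩ := h (Fin.last m)
    obtain ⟨t, ht⟩ := line hK (Finset.univ : Finset (Fin (m + 1))) (by simp; omega)
      (fun i t => L i (x + t • (y - x)) = c i) fun i _ t t' e e' => by
        by_contra hne'
        have h1 : (t - t') • L i (y - x) = 0 := by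
          rw [sub_smul, ← map_smul, ← map_smul]
          rw [map_add] at e e'
          rw [eq_sub_of_add_eq' e, eq_sub_of_add_eq' e', sub_self]
        have h2 : L i (y - x) = 0 := (smul_eq_zero.1 h1).resolve_left (sub_ne_zero.2 hne')
        have h3 : L i x = c i := by simpa [h2] using e
        induction i using Fin.lastCases with
        | last => exact hyi (by rw [map_sub, sub_eq_zero] at h2; rw [h2, h3])
        | cast i => exact hxi i h3
    exact ⟨_, hS x hx y hy t, fun i => ht i (Finset.mem_univ _)⟩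

theorem exists_notMem_four (hK : 4 ≤ Cardinal.mk K) :
    ∀ m ≤ 4, ∀ p : Fin m → Submodule K V, (∀ i, p i ≠ ⊤) → ∃ x, ∀ i, x ∉ p i := by
  intro m
  induction m with
  | zero => intro _ _ _; exact ⟨0, fun i => i.elim0⟩
  | succ m ih =>
    intro hm p hp
    obtain ⟨x, hx⟩ := ih (by omega) (fun i => p i.castSucc) fun i => hp i.castSucc
    by_cases hxl : x ∈ p (Fin.last m)
    swap
    · exact ⟨x, fun i => by
        induction i using Fin.lastCases with
        | last => exact hxl
        | cast i => exact hx i⟩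
    obtain ⟨y, -, hy⟩ := SetLike.exists_of_lt (lt_top_iff_ne_top.2 (hp (Fin.last m)))
    obtain ⟨t, ht⟩ := line hK (Finset.univ : Finset (Fin m)) (by simp; omega)
      (fun i t => y + t • x ∈ p i.castSucc) fun i _ t t' e e' => by
        by_contra hne
        have h1 : (t - t') • x ∈ p i.castSucc := by
          have := (p i.castSucc).sub_mem e e'
          rwa [add_sub_add_left_eq_sub, ← sub_smul] at this
        exact hx i ((Submodule.smul_mem_iff _ (sub_ne_zero.2 hne)).1 h1)
    refine ⟨y + t • x, fun i => ?_⟩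
    induction i using Fin.lastCases with
    | last => exact fun h => hy (by simpa using (p (Fin.last m)).sub_mem h ((p _).smul_mem t hxl))
    | cast i => exact ht i (Finset.mem_univ _)

theorem exists_dual_one {p : Submodule K V} {x : V} (hx : x ∉ p) :
    ∃ f : V →ₗ[K] K, f x = 1 ∧ ∀ y ∈ p, f y = 0 := by
  obtain ⟨f, hf, hp⟩ := Submodule.exists_dual_map_eq_bot_of_notMem hx inferInstance
  refine ⟨(f x)⁻¹ • f, by simp [hf], fun y hy => ?_⟩
  have : f y ∈ p.map f := ⟨y, hy, rfl⟩
  rw [hp, Submodule.mem_bot] at this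
  simp [this]

end CfsgLib.TwoJordan
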