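import Cfsg.Agent.Lib.TwoJordan.Avoid

/-!
# Products of two regular unipotent endomorphisms

`Split A m c r` says that `A = B * C` with `B - 1`, `C - 1` nilpotent of order `m + 1`,
`(B - 1) ^ m c ≠ 0` and `r ∘ (C - 1) ^ m ≠ 0`.
-/

set_option autoImplicit false
set_option linter.unusedSectionVars false

namespace CfsgLib.TwoJordan

open Module

variable {K : Type*} [Field K] {V : Type*} [AddCommGroup V] [Module K V]

/-- The property carried through the induction. -/
def Split (A : End K V) (m : ℕ) (c : V) (r : V →ₗ[K] K) : Prop :=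
  ∃ B C : End K V, A = B * C ∧ (B - 1) ^ (m + 1) = 0 ∧ (C - 1) ^ (m + 1) = 0 ∧
    (B - 1) ^ m • c ≠ 0 ∧ ∃ w, r ((C - 1) ^ m • w) ≠ 0

theorem split_one (hV : finrank K V = 1) [FiniteDimensional K V] (A : End K V)
    (hdet : LinearMap.det A = 1) {c : V} (hc : c ≠ 0) {r : V →ₗ[K] K} (hr : r ≠ 0) :
    Split A 0 c r := by
  have hA : A = 1 := by
    refine LinearMap.ext fun x => ?_
    obtain ⟨a, ha⟩ := (finrank_eq_one_iff_of_nonzero' c hc).1 hV (A c)
    have hA : A = a • (1 : End K V) := LinearMap.ext fun y => by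
      obtain ⟨b, rfl⟩ := (finrank_eq_one_iff_of_nonzero' c hc).1 hV y
      simp [← ha]
    rw [hA, LinearMap.det_smul, hV, pow_one, map_one, mul_one] at hdet
    simp [hA, hdet]
  refine ⟨1, 1, by simp [hA], by simp, by simp, by simpa using hc, ?_⟩
  obtain ⟨w, hw⟩ : ∃ w, r w ≠ 0 := by
    by_contra h
    push Not at h
    exact hr (LinearMap.ext h)
  exact ⟨w, by simpa using hw⟩

/-- Gluing along a functional `φ` and a vector `v` with `φ v = 1`. -/
theorem glue_up {φ : V →ₗ[K] K} {v e : V} (hv : φ v = 1) (he : φ e = 0)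
    (B₁ : End K (LinearMap.ker φ)) {m : ℕ} (h0 : (B₁ - 1) ^ (m + 1) = 0)
    {B : End K V} (hB : B v = v + e) (hBw : ∀ w : LinearMap.ker φ, B w = B₁ w) :
    (B - 1) ^ (m + 2) = 0 ∧ ∀ x : V, ((B - 1) ^ (m + 1) • x : V) =
      φ x • (((B₁ - 1) ^ m • (⟨e, he⟩ : LinearMap.ker φ) : LinearMap.ker φ) : V) := by
  have hstep : ∀ w : LinearMap.ker φ, (B - 1) (w : V) = ((B₁ - 1) w : LinearMap.ker φ) := fun w => by
    simp [hBw]
  have hk : ∀ (k : ℕ) (w : LinearMap.ker φ),
      ((B - 1) ^ k) (w : V) = (((B₁ - 1) ^ k) w : LinearMap.ker φ) := by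
    intro k
    induction k with
    | zero => intro w; rfl
    | succ k ih => intro w; rw [pow_succ, pow_succ, Module.End.mul_apply, hstep, ih]; rfl
  have hv1 : (B - 1) v = e := by simp [hB]
  have key : ∀ (k : ℕ) (x : V), ((B - 1) ^ (k + 1)) x =
      φ x • ((((B₁ - 1) ^ k) ⟨e, he⟩ : LinearMap.ker φ) : V) +
        ((((B₁ - 1) ^ (k + 1)) ⟨x - φ x • v, by simp [hv]⟩ : LinearMap.ker φ) : V) := by
    intro k x
    have h1 := hk (k + 1) ⟨x - φ x • v, by simp [hv]⟩
    rw [← h1, map_sub, map_smul]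
    have h2 : ((B - 1) ^ (k + 1)) v = (((B₁ - 1) ^ k) ⟨e, he⟩ : LinearMap.ker φ) := by
      rw [pow_succ, Module.End.mul_apply, hv1]
      exact hk k ⟨e, he⟩
    rw [h2]
    abel
  refine ⟨LinearMap.ext fun x => ?_, fun x => ?_⟩
  · rw [key (m + 1), h0, show (B₁ - 1) ^ (m + 1 + 1) = 0 by rw [pow_succ, h0, zero_mul]]
    simp
  · show ((B - 1) ^ (m + 1)) x = _
    rw [key m, h0]
    simp

/-- Gluing in the other direction: `C` fixes `v`. -/
theorem glue_down {φ : V →ₗ[K] K} {v : V} (hv : φ v = 1) (C₁ : End K (LinearMap.ker φ))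
    (r' : LinearMap.ker φ →ₗ[K] K) {m : ℕ} (h0 : (C₁ - 1) ^ (m + 1) = 0)
    {C : End K V} (hC : C v = v) (hCw : ∀ w : LinearMap.ker φ, C w = r' w • v + (C₁ w : V)) :
    (C - 1) ^ (m + 2) = 0 ∧ ∀ w : LinearMap.ker φ, ((C - 1) ^ (m + 1) • (w : V) : V) =
      r' ((C₁ - 1) ^ m • w) • v := by
  have hv0 : (C - 1) v = 0 := by simp [hC]
  have hstep : ∀ w : LinearMap.ker φ, (C - 1) (w : V) = r' w • v + ((C₁ - 1) w : LinearMap.ker φ) :=
    fun w => by simp [hCw, add_sub_assoc]
  have key : ∀ (k : ℕ) (w : LinearMap.ker φ), ((C - 1) ^ (k + 1)) (w : V) =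
      r' (((C₁ - 1) ^ k) w) • v + ((((C₁ - 1) ^ (k + 1)) w : LinearMap.ker φ) : V) := by
    intro k
    induction k with
    | zero => intro w; simpa using hstep w
    | succ k ih =>
      intro w
      rw [pow_succ' _ (k + 1), Module.End.mul_apply, ih, map_add, map_smul, hv0, smul_zero, zero_add,
        hstep, pow_succ' _ (k + 1), Module.End.mul_apply]
  refine ⟨LinearMap.ext fun x => ?_, fun w => ?_⟩
  · obtain ⟨w, a, rfl⟩ : ∃ (w : LinearMap.ker φ) (a : K), x = (w : V) + a • v :=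
      ⟨⟨x - φ x • v, by simp [hv]⟩, φ x, by simp⟩
    have hC2 : ((C - 1) ^ (m + 1 + 1)) v = 0 := by
      rw [pow_succ, Module.End.mul_apply, hv0, map_zero]
    rw [map_add, map_smul, key (m + 1), hC2, h0, show (C₁ - 1) ^ (m + 1 + 1) = 0 by rw [pow_succ, h0, zero_mul]]
    simp
  · show ((C - 1) ^ (m + 1)) (w : V) = _
    rw [key m, h0]
    simp

/-- The extension of a map on `ker φ` sending `v` to `y`. -/
def ext' (φ : V →ₗ[K] K) {v : V} (hv : φ v = 1) (f : LinearMap.ker φ →ₗ[K] V) (y : V) : End K V :=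
  f ∘ₗ LinearMap.codRestrict (LinearMap.ker φ) (LinearMap.id - φ.smulRight v) (fun x => by simp [hv]) +
    φ.smulRight y

theorem ext'_v (φ : V →ₗ[K] K) {v : V} (hv : φ v = 1) (f : LinearMap.ker φ →ₗ[K] V) (y : V) :
    ext' φ hv f y v = y := by
  have h : LinearMap.codRestrict (LinearMap.ker φ) (LinearMap.id - φ.smulRight v)
      (fun x => by simp [hv]) v = 0 := Subtype.ext (show v - φ v • v = 0 by simp [hv])
  simp [ext', h, hv]

theorem ext'_ker (φ : V →ₗ[K] K) {v : V} (hv : φ v = 1) (f : LinearMap.ker φ →ₗ[K] V) (y : V)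
    (w : LinearMap.ker φ) : ext' φ hv f y w = f w := by
  have h : LinearMap.codRestrict (LinearMap.ker φ) (LinearMap.id - φ.smulRight v)
      (fun x => by simp [hv]) (w : V) = w := Subtype.ext (show (w : V) - φ w • v = w by simp [LinearMap.mem_ker.1 w.2])
  simp [ext', h, LinearMap.mem_ker.1 w.2]

theorem ext_of {φ : V →ₗ[K] K} {v : V} (hv : φ v = 1) {f g : End K V} (h1 : f v = g v)
    (h2 : ∀ w : LinearMap.ker φ, f w = g w) : f = g :=
  LinearMap.ext fun x => by
    have h3 := h2 ⟨x - φ x • v, by simp [hv]⟩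
    simp only [map_sub, map_smul, h1] at h3
    exact sub_left_inj.1 h3

variable [FiniteDimensional K V]

theorem finrank_ker {φ : V →ₗ[K] K} {v : V} (hv : φ v = 1) :
    finrank K (LinearMap.ker φ) + 1 = finrank K V := by
  have hs : LinearMap.range φ = ⊤ :=
    LinearMap.range_eq_top.2 fun a => ⟨a • v, by simp [hv]⟩
  have h := LinearMap.finrank_range_add_finrank_ker φ
  rw [hs, finrank_top, finrank_self] at h
  omega

/-- `1 + u ⊗ ψ` of determinant one is unipotent. -/
theorem not_unip_rank {A : End K V} {u : V} (hdet : LinearMap.det A = 1)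
    (hA : ¬ IsNilpotent (A - 1)) : ∃ x, (A - 1) x ∉ (K ∙ u) := by
  by_contra h
  push Not at h
  rcases eq_or_ne u 0 with rfl | hu
  · refine hA ⟨1, LinearMap.ext fun x => ?_⟩
    simpa using h x
  obtain ⟨f, hf, -⟩ := exists_dual_one (p := (⊥ : Submodule K V)) (x := u) (by simpa using hu)
  have hAe : A = LinearMap.transvection (f ∘ₗ (A - 1)) u := LinearMap.ext fun x => by
    obtain ⟨a, ha⟩ := Submodule.mem_span_singleton.1 (h x)
    simp only [LinearMap.transvection.apply, LinearMap.comp_apply, ← ha, map_smul, hf, smul_eq_mul,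
      mul_one]
    rw [ha]; simp
  rw [hAe, LinearMap.transvection.det] at hdet
  refine hA ⟨2, LinearMap.ext fun x => ?_⟩
  obtain ⟨a, ha⟩ := Submodule.mem_span_singleton.1 (h x)
  obtain ⟨b, hb⟩ := Submodule.mem_span_singleton.1 (h u)
  have hb0 : b = 0 := by
    have : f ((A - 1) u) = 0 := by simpa using hdet
    simpa [← hb, hf] using this
  rw [pow_two, Module.End.mul_apply, ← ha, map_smul, ← hb, hb0]
  simp

end CfsgLib.TwoJordan
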